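import Cfsg.Agent.Lib.Invol.Basic
import Cfsg.Agent.Lib.PGroup.SCN

/-!
# A 2-group of rank at least 3 has a normal four-subgroup
-/

set_option autoImplicit false

namespace Cfsg.Agent.Invol

variable {S : Type*} [Group S]

/-- An element of a 2-group killed by an odd power is trivial. -/
theorem eq_one_of_odd_zpow (hS : IsPGroup 2 S) {x : S} {i : ℤ} (h : x ^ (2 * i + 1) = 1) :
    x = 1 := by
  obtain ⟨k, hk⟩ := hS x
  obtain ⟨m, -, hm⟩ := (Nat.dvd_prime_pow Nat.prime_two).1 (orderOf_dvd_of_pow_eq_one hk)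
  rcases m with _ | m
  · simpa using hm
  · exfalso
    have hd : (2 : ℤ) ∣ 2 * i + 1 := by
      refine dvd_trans ?_ (orderOf_dvd_iff_zpow_eq_one.2 h)
      rw [hm]
      exact ⟨2 ^ m, by push_cast; ring⟩
    omega

/-- A set of at most four elements `1, z, e, z * e` with `z, e` commuting involutions. -/
def fourSubgroup {z e : S} (hz : z * z = 1) (he : e * e = 1) (hc : Commute z e) : Subgroup S where
  carrier := {1, z, e, z * e}
  one_mem' := by simp
  mul_mem' := by
    intro a b ha hb
    simp only [Set.mem_insert_iff, Set.mem_singleton_iff] at ha hb ⊢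
    have h1 : ∀ w, z * (z * w) = w := fun w => by rw [← mul_assoc, hz, one_mul]
    have h2 : ∀ w, e * (z * w) = z * (e * w) := fun w => by
      rw [← mul_assoc, ← hc.eq, mul_assoc]
    rcases ha with rfl | rfl | rfl | rfl <;> rcases hb with rfl | rfl | rfl | rfl <;>
      simp [mul_assoc, hz, he, h1, h2, hc.eq.symm]
  inv_mem' := by
    intro a ha
    simp only [Set.mem_insert_iff, Set.mem_singleton_iff] at ha ⊢
    have h1 : z⁻¹ = z := inv_eq_of_mul_eq_one_right hz
    have h2 : e⁻¹ = e := inv_eq_of_mul_eq_one_right he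
    rcases ha with rfl | rfl | rfl | rfl <;> simp [h1, h2, hc.eq]

/-- A finite 2-group containing an elementary abelian subgroup of order 8 has a normal
four-subgroup. -/
theorem exists_normal_four [Finite S] (hS : IsPGroup 2 S) (E : Subgroup S)
    (hEc : Nat.card E = 8) (hE : ∀ e ∈ E, e ^ 2 = 1) :
    ∃ U : Subgroup S, U.Normal ∧ Nat.card U = 4 ∧ ∀ u ∈ U, u ^ 2 = 1 := by
  classical
  haveI : Fact (Nat.Prime 2) := ⟨Nat.prime_two⟩
  haveI := Fintype.ofFinite S
  obtain ⟨A, hAn, hAc, hAmax⟩ := PGroup.exists_maximal_abelian_normal (G := S)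
  have hcomm : ∀ x ∈ A, ∀ y ∈ A, Commute x y := fun x hx y hy => congrArg Subtype.val (hAc.is_comm.comm ⟨x, hx⟩ ⟨y, hy⟩)
  have hCA := PGroup.centralizer_eq_of_maximal_abelian_normal hS hAc hAmax
  let Ω : Subgroup S :=
    { carrier := {x | x ∈ A ∧ x * x = 1}
      one_mem' := ⟨one_mem _, one_mul 1⟩
      mul_mem' := by
        rintro x y ⟨hx, hx2⟩ ⟨hy, hy2⟩
        refine ⟨mul_mem hx hy, ?_⟩
        rw [mul_assoc x y, ← mul_assoc y x y, (hcomm y hy x hx).eq, mul_assoc x y y, hy2, mul_one,
          hx2]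
      inv_mem' := by
        rintro x ⟨hx, hx2⟩
        exact ⟨inv_mem hx, by rw [inv_eq_of_mul_eq_one_right hx2]; exact hx2⟩ }
  have hΩn : Ω.Normal := ⟨fun x hx g => ⟨hAn.conj_mem x hx.1 g, by
    calc g * x * g⁻¹ * (g * x * g⁻¹) = g * (x * x) * g⁻¹ := by group
      _ = 1 := by rw [hx.2]; group⟩⟩
  by_cases hΩ : 4 ≤ Nat.card Ω
  · obtain ⟨m, hm⟩ := PGroup.card_eq_pow hS Ω
    have h2m : 2 ≤ m := by
      by_contra h
      have : 2 ^ m ≤ 2 ^ 1 := Nat.pow_le_pow_right (by norm_num) (by omega)
      omega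
    obtain ⟨U, hUn, -, hUΩ, hUc⟩ := PGroup.exists_normal_card_between hS (⊥ : Subgroup S) Ω
      bot_le 2 (by rw [Subgroup.card_bot]; norm_num) (by
        rw [hm]
        exact Nat.pow_le_pow_right two_pos h2m)
    refine ⟨U, hUn, hUc, fun u hu => ?_⟩
    rw [pow_two]
    exact (hUΩ hu).2
  push_neg at hΩ
  obtain ⟨a, haA, hamax⟩ := Finset.exists_max_image (Finset.univ.filter fun x : S => x ∈ A)
    (fun x => orderOf x) ⟨1, by simp⟩
  simp only [Finset.mem_filter, Finset.mem_univ, true_and] at haA hamax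
  have hAne : A ≠ ⊥ := by
    intro h
    rw [h] at hCA
    have htop : (⊤ : Subgroup S) ≤ ⊥ := by
      rw [← hCA]
      intro g _ x hx
      rw [SetLike.mem_coe, Subgroup.mem_bot] at hx
      simp [hx]
    have := Subgroup.card_le_card_group E
    have h1 : Nat.card S = 1 := by
      rw [← Subgroup.card_top, le_bot_iff.1 htop, Subgroup.card_bot]
    omega
  obtain ⟨z, hzA, hz2⟩ : ∃ z ∈ A, orderOf z = 2 := by
    obtain ⟨k, hk⟩ := PGroup.card_eq_pow hS A
    refine exists_involution_mem ?_
    rw [hk]
    refine Nat.even_pow.2 ⟨even_two, ?_⟩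
    rintro rfl
    exact hAne (Subgroup.eq_bot_of_card_eq _ hk)
  have hzz := mul_self_of_orderOf_two hz2
  have hz1 := ne_one_of_orderOf_two hz2
  have hu : ∀ x ∈ A, x * x = 1 → x = 1 ∨ x = z := by
    intro x hx hx2
    by_contra hh
    push_neg at hh
    have hsub : ({1, z, x} : Finset S) ⊆ Finset.univ.filter fun y => y ∈ Ω := by
      intro y hy
      simp only [Finset.mem_insert, Finset.mem_singleton] at hy
      simp only [Finset.mem_filter, Finset.mem_univ, true_and]
      rcases hy with rfl | rfl | rfl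
      · exact one_mem _
      · exact ⟨hzA, hzz⟩
      · exact ⟨hx, hx2⟩
    have hle := Finset.card_le_card hsub
    rw [← Fintype.card_subtype, ← Nat.card_eq_fintype_card,
      Finset.card_insert_of_notMem (by simp [hz1.symm, hh.1.symm]),
      Finset.card_pair hh.2.symm] at hle
    have : Nat.card Ω ≠ 3 := by
      obtain ⟨m, hm⟩ := PGroup.card_eq_pow hS Ω
      rcases m with _ | _ | m
      · omega
      · omega
      · rw [hm, pow_succ, pow_succ]
        omega
    change Nat.card Ω < 4 at hΩ
    change 2 + 1 ≤ Nat.card Ω at hle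
    omega
  have ha1 : a ≠ 1 := by
    rintro rfl
    have := hamax z hzA
    rw [hz2, orderOf_one] at this
    omega
  -- `A` is cyclic, generated by `a`
  have hgen : ∀ x ∈ A, x ∈ Subgroup.zpowers a := by
    have hzmem : z ∈ Subgroup.zpowers a := by
      obtain ⟨w, hw, hw2⟩ : ∃ w ∈ Subgroup.zpowers a, orderOf w = 2 := by
        obtain ⟨k, hk⟩ := PGroup.card_eq_pow hS (Subgroup.zpowers a)
        refine exists_involution_mem ?_
        rw [hk]
        refine Nat.even_pow.2 ⟨even_two, ?_⟩
        rintro rfl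
        exact ha1 (orderOf_eq_one_iff.1 (by rw [← Nat.card_zpowers, hk, pow_zero]))
      rcases hu w (Subgroup.zpowers_le.2 haA hw) (mul_self_of_orderOf_two hw2) with h | h
      · exact absurd h (ne_one_of_orderOf_two hw2)
      · exact h ▸ hw
    have key : ∀ k : ℕ, ∀ x ∈ A, x ^ 2 ^ k ∈ Subgroup.zpowers a → x ∈ Subgroup.zpowers a := by
      intro k
      induction k with
      | zero => intro x _ hx; simpa using hx
      | succ k ih =>
        intro x hx hxk
        rw [pow_succ', pow_mul] at hxk
        obtain ⟨i, hi⟩ := Subgroup.mem_zpowers_iff.1 (ih _ (pow_mem hx 2) hxk)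
        rcases Int.even_or_odd' i with ⟨j, rfl | rfl⟩
        · have hy : x * (a ^ j)⁻¹ * (x * (a ^ j)⁻¹) = 1 := by
            have hc : Commute x (a ^ j)⁻¹ := hcomm x hx _ (inv_mem (zpow_mem haA j))
            rw [← pow_two, hc.mul_pow, ← hi, inv_pow, ← zpow_natCast (a ^ j), ← zpow_mul,
              mul_comm j]
            simp
          have hmem : x * (a ^ j)⁻¹ ∈ Subgroup.zpowers a := by
            rcases hu _ (mul_mem hx (inv_mem (zpow_mem haA j))) hy with h | h <;> rw [h]
            · exact one_mem _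
            · exact hzmem
          simpa using mul_mem hmem (zpow_mem (Subgroup.mem_zpowers a) j)
        · exfalso
          have hle := hamax x hx
          have hx1 : x ≠ 1 := by
            rintro rfl
            rw [one_pow] at hi
            exact ha1 (eq_one_of_odd_zpow hS hi)
          have hxo : orderOf (x ^ 2) < orderOf x := by
            obtain ⟨m, hm⟩ := hS x
            obtain ⟨l, -, hl⟩ := (Nat.dvd_prime_pow Nat.prime_two).1 (orderOf_dvd_of_pow_eq_one hm)
            rcases l with _ | l
            · exact absurd (orderOf_eq_one_iff.1 (by simpa using hl)) hx1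
            · rw [orderOf_pow, hl, pow_succ, Nat.gcd_mul_left_left, Nat.mul_div_cancel _ two_pos]
              have := Nat.two_pow_pos l
              omega
          have hax : orderOf a ∣ orderOf (x ^ 2) := by
            apply orderOf_dvd_of_pow_eq_one
            refine eq_one_of_odd_zpow hS (i := j) ?_
            rw [← zpow_natCast a, ← zpow_mul, mul_comm, zpow_mul, hi, zpow_natCast,
              pow_orderOf_eq_one]
          have := Nat.le_of_dvd (orderOf_pos _) hax
          omega
    intro x hx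
    obtain ⟨k, hk⟩ := hS x
    exact key k x hx (by rw [hk]; exact one_mem _)
  have hcent : ∀ g, Commute g a → g ∈ A := by
    intro g hg
    rw [← hCA]
    intro x hx
    obtain ⟨i, rfl⟩ := Subgroup.mem_zpowers_iff.1 (hgen x hx)
    exact ((hg.zpow_right i).eq).symm
  have hzc : ∀ g : S, g * z = z * g := by
    intro g
    have h2 : orderOf (g * z * g⁻¹) = 2 := by rw [orderOf_conj_eq, hz2]
    rcases hu _ (hAn.conj_mem z hzA g) (mul_self_of_orderOf_two h2) with h | h
    · exact absurd h (ne_one_of_orderOf_two h2)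
    · exact mul_inv_eq_iff_eq_mul.1 h
  -- conjugates of `a` are odd powers of `a`
  have hconj : ∀ g : S, ∃ j : ℤ, g * a * g⁻¹ = a ^ (2 * j + 1) := by
    intro g
    obtain ⟨i, hi⟩ := Subgroup.mem_zpowers_iff.1 (hgen _ (hAn.conj_mem a haA g))
    rcases Int.even_or_odd' i with ⟨j, rfl | rfl⟩
    · exfalso
      obtain ⟨l, hl⟩ := Subgroup.mem_zpowers_iff.1 (hgen _ (hAn.conj_mem a haA g⁻¹))
      apply ha1
      refine eq_one_of_odd_zpow hS (i := l * j - 1) ?_
      have : a = (a ^ (2 * j)) ^ l := by
        rw [hi, conj_zpow, hl]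
        group
      rw [← zpow_mul] at this
      rw [show 2 * (l * j - 1) + 1 = 2 * j * l - 1 by ring, zpow_sub, ← this, zpow_one, mul_inv_cancel]
    · exact ⟨j, hi.symm⟩
  have hinv : ∀ e ∈ E, e⁻¹ = e := fun e he =>
    inv_eq_of_mul_eq_one_right (by rw [← pow_two]; exact hE e he)
  -- squares of conjugates of `a` under `E`
  have hsq : ∀ e ∈ E, (e * a * e⁻¹) * (e * a * e⁻¹) = a * a ∨
      (e * a * e⁻¹) * (e * a * e⁻¹) = (a * a)⁻¹ := by
    intro e he
    obtain ⟨j, hj⟩ := hconj e
    have h1 : a ^ ((2 * j + 1) * (2 * j + 1)) = a := by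
      rw [zpow_mul, ← hj, conj_zpow, ← hj, hinv e he]
      have : e * e = 1 := by rw [← pow_two]; exact hE e he
      calc e * (e * a * e) * e = (e * e) * a * (e * e) := by group
        _ = a := by rw [this]; group
    rw [hj, ← zpow_add]
    have h2 : a ^ (4 * j * (j + 1)) = 1 := by
      rw [show 4 * j * (j + 1) = (2 * j + 1) * (2 * j + 1) - 1 by ring, zpow_sub, h1, zpow_one,
        mul_inv_cancel]
    rcases Int.even_or_odd' j with ⟨l, rfl | rfl⟩
    · left
      have : a ^ (8 * l) = 1 := eq_one_of_odd_zpow hS (i := l) (by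
        rw [← zpow_mul, show 8 * l * (2 * l + 1) = 4 * (2 * l) * (2 * l + 1) by ring, h2])
      rw [show 2 * (2 * l) + 1 + (2 * (2 * l) + 1) = 8 * l + 2 by ring, zpow_add, this, one_mul,
        zpow_two]
    · right
      have : a ^ (8 * (l + 1)) = 1 := eq_one_of_odd_zpow hS (i := l) (by
        rw [← zpow_mul, show 8 * (l + 1) * (2 * l + 1) = 4 * (2 * l + 1) * (2 * l + 1 + 1) by ring,
          h2])
      rw [show 2 * (2 * l + 1) + 1 + (2 * (2 * l + 1) + 1) = 8 * (l + 1) + (-2) by ring, zpow_add,
        this, one_mul, zpow_neg, zpow_two]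
  have hroot : ∀ x ∈ A, ∀ y ∈ A, x * x = y * y → x = y ∨ x = z * y := by
    intro x hx y hy hxy
    have h : x * y⁻¹ * (x * y⁻¹) = 1 := by
      have hc : Commute x y⁻¹ := hcomm x hx _ (inv_mem hy)
      rw [← pow_two, hc.mul_pow, inv_pow, pow_two, pow_two, hxy, mul_inv_cancel]
    rcases hu _ (mul_mem hx (inv_mem hy)) h with h | h
    · exact Or.inl (mul_inv_eq_one.1 h)
    · exact Or.inr (mul_inv_eq_iff_eq_mul.1 h)
  -- the image of `E` in the automorphisms of `A` has at least four elements
  let EF : Finset S := Finset.univ.filter fun x => x ∈ E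
  let img : Finset S := EF.image fun e => e * a * e⁻¹
  have himg : 4 ≤ img.card := by
    have hfib : ∀ r ∈ img, (EF.filter fun e => e * a * e⁻¹ = r).card ≤ 2 := by
      intro r hr
      obtain ⟨e₀, he₀, rfl⟩ := Finset.mem_image.1 hr
      simp only [EF, Finset.mem_filter, Finset.mem_univ, true_and] at he₀
      refine le_trans (Finset.card_le_card (t := {e₀, e₀ * z}) fun e he => ?_) Finset.card_le_two
      simp only [EF, Finset.mem_filter, Finset.mem_univ, true_and] at he
      have hc : Commute (e₀⁻¹ * e) a := by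
        rw [commute_iff_eq, ← mul_inv_eq_iff_eq_mul]
        calc e₀⁻¹ * e * a * (e₀⁻¹ * e)⁻¹ = e₀⁻¹ * (e * a * e⁻¹) * e₀ := by group
          _ = a := by rw [he.2]; group
      have h2 := hE _ (mul_mem (inv_mem he₀) he.1)
      rw [pow_two] at h2
      rcases hu _ (hcent _ hc) h2 with h | h
      · simp [(inv_mul_eq_one.1 h).symm]
      · simp [inv_mul_eq_iff_eq_mul.1 h]
    have h := Finset.card_le_mul_card_image EF 2 hfib
    have hEF : EF.card = 8 := by rw [← hEc, Nat.card_eq_fintype_card, Fintype.card_subtype]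
    change EF.card ≤ 2 * img.card at h
    omega
  obtain ⟨e', he', he'2⟩ : ∃ e' ∈ E, (e' * a * e'⁻¹) * (e' * a * e'⁻¹) ≠ a * a := by
    by_contra hh
    push_neg at hh
    have hsub : img ⊆ ({a, z * a} : Finset S) := fun r hr => by
      obtain ⟨e, he, rfl⟩ := Finset.mem_image.1 hr
      simp only [EF, Finset.mem_filter, Finset.mem_univ, true_and] at he
      rcases hroot _ (hAn.conj_mem a haA e) a haA (hh e he) with h | h <;> simp [h]
    have := (Finset.card_le_card hsub).trans Finset.card_le_two
    omega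
  have ha4 : a * a * (a * a) ≠ 1 := fun h => he'2 (by
    rcases hsq e' he' with h' | h'
    · exact h'
    · rw [h', inv_eq_of_mul_eq_one_right h])
  obtain ⟨e, he, hea⟩ : ∃ e ∈ E, e * a * e⁻¹ = z * a := by
    by_contra hh
    push_neg at hh
    let b' : S := e' * a * e'⁻¹
    have hsub : img ⊆ ({a, b', z * b'} : Finset S) := fun r hr => by
      obtain ⟨e, he, rfl⟩ := Finset.mem_image.1 hr
      simp only [EF, Finset.mem_filter, Finset.mem_univ, true_and] at he
      rcases hsq e he with h | h
      · rcases hroot _ (hAn.conj_mem a haA e) a haA h with h | h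
        · simp [h]
        · exact absurd h (hh e he)
      · have h' : b' * b' = (a * a)⁻¹ := (hsq e' he').resolve_left he'2
        rcases hroot _ (hAn.conj_mem a haA e) b' (hAn.conj_mem a haA e') (h.trans h'.symm) with h | h <;>
          simp [h]
    have := (Finset.card_le_card hsub).trans Finset.card_le_three
    omega
  have hee : e * e = 1 := by rw [← pow_two]; exact hE e he
  have hze : Commute z e := (hzc e).symm
  refine ⟨fourSubgroup hzz hee hze, ⟨fun x hx g => ?_⟩, ?_, fun x hx => ?_⟩
  · have hf : g * e * g⁻¹ = e ∨ g * e * g⁻¹ = z * e := by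
      obtain ⟨j, hj⟩ := hconj g⁻¹
      rw [inv_inv] at hj
      set f := g * e * g⁻¹ with hfdef
      have hfa : f * a * f⁻¹ = z * a := by
        calc f * a * f⁻¹ = g * (e * (g⁻¹ * a * g) * e⁻¹) * g⁻¹ := by rw [hfdef]; group
          _ = g * (z * a) ^ (2 * j + 1) * g⁻¹ := by rw [hj, ← conj_zpow, hea]
          _ = g * (z * (g⁻¹ * a * g)) * g⁻¹ := by
              rw [(hcomm z hzA a haA).mul_zpow, hj, zpow_add, zpow_mul, zpow_two, hzz, one_zpow,
                one_mul, zpow_one]
          _ = z * a := by rw [← mul_assoc g z, hzc g]; group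
      have hcA : f * e ∈ A := hcent _ (by
        rw [commute_iff_eq, ← mul_inv_eq_iff_eq_mul]
        calc f * e * a * (f * e)⁻¹ = f * (e * a * e⁻¹) * f⁻¹ := by group
          _ = z * (f * a * f⁻¹) := by rw [hea, ← mul_assoc f z, hzc f]; group
          _ = a := by rw [hfa, ← mul_assoc, hzz, one_mul])
      obtain ⟨i, hi⟩ := Subgroup.mem_zpowers_iff.1 (hgen _ hcA)
      have hff : f * f = 1 := by
        calc f * f = g * (e * e) * g⁻¹ := by rw [hfdef]; group
          _ = 1 := by rw [hee]; group
      have hece : e * a ^ i * e⁻¹ = (a ^ i)⁻¹ := by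
        rw [hi, mul_inv_rev, inv_eq_of_mul_eq_one_right hff, inv_eq_of_mul_eq_one_right hee,
          mul_assoc, mul_assoc, hee, mul_one]
      rw [← conj_zpow, hea, (hcomm z hzA a haA).mul_zpow, eq_inv_iff_mul_eq_one] at hece
      have hi2 : f * e * (f * e) = 1 := by
        rw [← hi]
        rcases Int.even_or_odd' i with ⟨l, rfl | rfl⟩
        · rwa [zpow_mul, zpow_two, hzz, one_zpow, one_mul] at hece
        · exfalso
          rw [zpow_add z, zpow_mul, zpow_two, hzz, one_zpow, one_mul, zpow_one, mul_assoc] at hece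
          have h3 : a ^ (2 * l + 1) * a ^ (2 * l + 1) = z := by
            rw [← inv_eq_of_mul_eq_one_right hece, inv_of_orderOf_two hz2]
          apply ha4
          refine eq_one_of_odd_zpow hS (i := l) ?_
          rw [← h3] at hzz
          rw [← hzz, Commute.mul_zpow (Commute.refl _), Commute.mul_zpow (Commute.refl _)]
      rcases hu _ hcA hi2 with h | h
      · left
        rw [eq_inv_of_mul_eq_one_left h, inv_eq_of_mul_eq_one_right hee]
      · right
        calc f = f * e * e := by rw [mul_assoc, hee, mul_one]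
          _ = z * e := by rw [h]
    rcases hx with rfl | rfl | rfl | rfl
    · exact Or.inl (by group)
    · exact Or.inr (Or.inl (by rw [hzc g, mul_inv_cancel_right]))
    · rcases hf with h | h <;> rw [h]
      · exact Or.inr (Or.inr (Or.inl rfl))
      · exact Or.inr (Or.inr (Or.inr rfl))
    · have : g * (z * e) * g⁻¹ = z * (g * e * g⁻¹) := by rw [← mul_assoc g z, hzc g]; group
      rw [this]
      rcases hf with h | h <;> rw [h]
      · exact Or.inr (Or.inr (Or.inr rfl))
      · exact Or.inr (Or.inr (Or.inl (by rw [← mul_assoc, hzz, one_mul])))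
  · have heA : e ∉ A := fun h => hz1 (by
      have h' := hea
      rw [(hcomm e h a haA).eq, mul_inv_cancel_right] at h'
      exact right_eq_mul.1 h')
    have h2 : z ≠ e := fun h => heA (h ▸ hzA)
    have h3 : (1 : S) ≠ e := fun h => heA (h ▸ one_mem A)
    have h4 : z * e ≠ 1 := fun h => h2 (by
      rw [eq_inv_of_mul_eq_one_left h, inv_eq_of_mul_eq_one_right hee])
    have h5 : z * e ≠ z := fun h => h3 (mul_eq_left.1 h).symm
    have h6 : z * e ≠ e := fun h => hz1 (mul_eq_right.1 h)
    rw [Nat.card_eq_fintype_card, Fintype.card_subtype]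
    refine (congrArg Finset.card (?_ : _ = ({1, z, e, z * e} : Finset S))).trans ?_
    · ext y
      simp [fourSubgroup]
    · rw [Finset.card_insert_of_notMem, Finset.card_insert_of_notMem, Finset.card_pair h6.symm]
      · simp [h2, h5.symm]
      · simp [hz1.symm, h3, h4.symm]
  · rw [pow_two]
    rcases hx with rfl | rfl | rfl | rfl
    · exact one_mul 1
    · exact hzz
    · exact hee
    · rw [mul_assoc, ← mul_assoc e z e, ← hze.eq, mul_assoc z e e, hee, mul_one, hzz]

end Cfsg.Agent.Invol
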