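import Mathlib

/-!
# Elementary facts about involutions in finite groups
-/

set_option autoImplicit false

namespace Cfsg.Agent.Invol

variable {G : Type*} [Group G]

theorem orderOf_conj_eq (g x : G) : orderOf (g * x * g⁻¹) = orderOf x := by
  have := orderOf_injective (MulAut.conj g).toMonoidHom (MulAut.conj g).injective x
  simpa using this

theorem mul_self_of_orderOf_two {t : G} (ht : orderOf t = 2) : t * t = 1 := by
  have := pow_orderOf_eq_one t
  rwa [ht, pow_two] at this

theorem inv_of_orderOf_two {t : G} (ht : orderOf t = 2) : t⁻¹ = t :=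
  inv_eq_of_mul_eq_one_right (mul_self_of_orderOf_two ht)

theorem ne_one_of_orderOf_two {t : G} (ht : orderOf t = 2) : t ≠ 1 := by
  rintro rfl
  simp at ht

theorem orderOf_two_of_mul_self {t : G} (h : t * t = 1) (h1 : t ≠ 1) : orderOf t = 2 :=
  orderOf_eq_prime (by rwa [pow_two]) h1

theorem mem_centralizer_singleton_iff' {x g : G} :
    g ∈ Subgroup.centralizer ({x} : Set G) ↔ Commute g x := by
  rw [Subgroup.mem_centralizer_iff]
  exact ⟨fun h => (h x rfl).symm, fun h y hy => by rcases hy with rfl; exact h.symm⟩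

theorem orderOf_two_of_mem {H : Subgroup G} {t : H} (ht : orderOf (t : G) = 2) : orderOf t = 2 := by
  rwa [Subgroup.orderOf_coe] at ht

/-- A nontrivial subgroup of even order contains an involution. -/
theorem exists_involution_mem [Finite G] {H : Subgroup G} (h : Even (Nat.card H)) :
    ∃ t ∈ H, orderOf t = 2 := by
  haveI : Fact (Nat.Prime 2) := ⟨Nat.prime_two⟩
  obtain ⟨t, ht⟩ := exists_prime_orderOf_dvd_card' 2 (even_iff_two_dvd.1 h)
  exact ⟨t, t.2, by rwa [Subgroup.orderOf_coe]⟩

/-- An element of a subgroup with odd order is no involution. -/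
theorem not_mem_of_odd {H : Subgroup G} (h : Odd (Nat.card H)) {t : G} (ht : orderOf t = 2) :
    t ∉ H := by
  intro hm
  have h2 : orderOf (⟨t, hm⟩ : H) = 2 := orderOf_two_of_mem ht
  have := orderOf_dvd_natCard (⟨t, hm⟩ : H)
  rw [h2] at this
  exact Nat.not_even_iff_odd.2 h (even_iff_two_dvd.2 this)

/-- The product of two involutions is inverted by each of them. -/
theorem conj_mul_eq_inv {s t : G} (hs : s * s = 1) (ht : t * t = 1) :
    t * (s * t) * t⁻¹ = (s * t)⁻¹ := by
  have hs' : s⁻¹ = s := inv_eq_of_mul_eq_one_right hs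
  have ht' : t⁻¹ = t := inv_eq_of_mul_eq_one_right ht
  simp only [mul_inv_rev, hs', ht', mul_assoc]
  rw [ht, mul_one]

theorem pow_mul_inv_eq {s t : G} (hs : s * s = 1) (ht : t * t = 1) (k : ℕ) :
    t * (s * t) ^ k = ((s * t) ^ k)⁻¹ * t := by
  have h := congrArg (fun y => y ^ k) (conj_mul_eq_inv hs ht)
  simp only [conj_pow, inv_pow] at h
  rw [← h]
  group

theorem pow_mul_inv_eq' {s t : G} (hs : s * s = 1) (ht : t * t = 1) (k : ℕ) :
    s * (s * t) ^ k = ((s * t) ^ k)⁻¹ * s := by
  have hs' : s⁻¹ = s := inv_eq_of_mul_eq_one_right hs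
  have h1 : s * (s * t) * s⁻¹ = (s * t)⁻¹ := by
    have ht' : t⁻¹ = t := inv_eq_of_mul_eq_one_right ht
    simp only [mul_inv_rev, hs', ht', ← mul_assoc, hs, one_mul]
  have h := congrArg (fun y => y ^ k) h1
  simp only [conj_pow, inv_pow] at h
  rw [← h]
  group

/-- If the product of two involutions has odd order, they are conjugate. -/
theorem isConj_of_odd_orderOf_mul {s t : G} (hs : s * s = 1) (ht : t * t = 1)
    (hodd : Odd (orderOf (s * t))) : IsConj s t := by
  obtain ⟨k, hk⟩ := hodd
  have hy : (s * t) ^ (k + 1) * (s * t) ^ (k + 1) = s * t := by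
    rw [← pow_add, show k + 1 + (k + 1) = orderOf (s * t) + 1 by omega, pow_succ,
      pow_orderOf_eq_one, one_mul]
  refine isConj_iff.2 ⟨((s * t) ^ (k + 1))⁻¹, ?_⟩
  have hc := pow_mul_inv_eq' hs ht (k + 1)
  generalize hyy : (s * t) ^ (k + 1) = y at hy hc
  rw [inv_inv, ← hc, mul_assoc, hy, ← mul_assoc, hs, one_mul]

/-- If the product of two involutions has even order `2 * m`, its `m`-th power is an involution
commuting with both. -/
theorem commute_pow_half {s t : G} (hs : s * s = 1) (ht : t * t = 1) {m : ℕ} (hm0 : m ≠ 0)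
    (hm : orderOf (s * t) = 2 * m) :
    orderOf ((s * t) ^ m) = 2 ∧ Commute ((s * t) ^ m) s ∧ Commute ((s * t) ^ m) t := by
  have hz : orderOf ((s * t) ^ m) = 2 := by
    rw [orderOf_pow' _ hm0, hm, Nat.gcd_mul_left_left]
    exact Nat.mul_div_cancel 2 (Nat.pos_of_ne_zero hm0)
  have hzi := inv_of_orderOf_two hz
  refine ⟨hz, ?_, ?_⟩
  · have := pow_mul_inv_eq' hs ht m
    rw [hzi] at this
    exact this.symm
  · have := pow_mul_inv_eq hs ht m
    rw [hzi] at this
    exact this.symm

/-- Two non-conjugate involutions centralize a common involution. -/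
theorem exists_common_commuting [Finite G] {s t : G} (hs : orderOf s = 2) (ht : orderOf t = 2)
    (hnc : ¬ IsConj s t) : ∃ z : G, orderOf z = 2 ∧ Commute z s ∧ Commute z t := by
  have hs' := mul_self_of_orderOf_two hs
  have ht' := mul_self_of_orderOf_two ht
  rcases Nat.even_or_odd (orderOf (s * t)) with he | ho
  · obtain ⟨m, hm⟩ := he
    have hm0 : m ≠ 0 := by
      intro h0
      subst h0
      exact (orderOf_pos (s * t)).ne' (by simpa using hm)
    exact ⟨_, commute_pow_half hs' ht' hm0 (by omega)⟩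
  · exact absurd (isConj_of_odd_orderOf_mul hs' ht' ho) hnc

/-- The set `{x | x * x = 1}` consists of `1` and the involutions. -/
theorem card_sq_eq_one [Finite G] :
    Nat.card {x : G // x * x = 1} = Nat.card {t : G // orderOf t = 2} + 1 := by
  classical
  haveI := Fintype.ofFinite G
  simp only [Nat.card_eq_fintype_card, Fintype.card_subtype]
  have : (Finset.univ.filter fun x : G => x * x = 1) =
      insert 1 (Finset.univ.filter fun x : G => orderOf x = 2) := by
    ext x
    simp only [Finset.mem_filter, Finset.mem_univ, true_and, Finset.mem_insert]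
    constructor
    · intro h
      rcases eq_or_ne x 1 with h1 | h1
      · exact Or.inl h1
      · exact Or.inr (orderOf_two_of_mul_self h h1)
    · rintro (rfl | h)
      · simp
      · exact mul_self_of_orderOf_two h
  rw [this, Finset.card_insert_of_notMem (by simp)]

/-- An elementary form of the Thompson transfer lemma: if an involution fixes no coset of a
subgroup whose index is twice an odd number, then there is a subgroup of index `2`. -/
theorem exists_index_two_of_fpf [Finite G] (M : Subgroup G) (m : ℕ) (hm : Odd m)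
    (hidx : M.index = 2 * m) (x : G) (hx : x * x = 1) (hfree : ∀ g : G, g⁻¹ * x * g ∉ M) :
    ∃ H : Subgroup G, H.index = 2 := by
  classical
  haveI := Fintype.ofFinite (G ⧸ M)
  let φ : G →* ℤˣ := Equiv.Perm.sign.comp (MulAction.toPermHom G (G ⧸ M))
  let σ : Equiv.Perm (G ⧸ M) := MulAction.toPermHom G (G ⧸ M) x
  have hσ2 : σ ^ 2 = 1 := by
    rw [pow_two, ← map_mul, hx, map_one]
  have hne : ∀ c, σ c ≠ c := by
    intro c
    induction c using QuotientGroup.induction_on with
    | _ g =>
      intro h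
      apply hfree g
      have h' : ((x * g : G) : G ⧸ M) = (g : G ⧸ M) := h
      rw [QuotientGroup.eq] at h'
      have := M.inv_mem h'
      simpa [mul_assoc] using this
  have hsupp : σ.support = Finset.univ := by
    ext c
    simp [hne c]
  have hcard : Fintype.card (G ⧸ M) = 2 * m := by
    rw [← Nat.card_eq_fintype_card, ← Subgroup.index_eq_card, hidx]
  have hsum : σ.cycleType.sum = 2 * m := by
    rw [Equiv.Perm.sum_cycleType, hsupp, Finset.card_univ, hcard]
  have h2 : ∀ b ∈ σ.cycleType, b = 2 := fun b hb => by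
    have hd := (Equiv.Perm.dvd_of_mem_cycleType hb).trans (orderOf_dvd_of_pow_eq_one hσ2)
    have h1 := Equiv.Perm.two_le_of_mem_cycleType hb
    have := Nat.le_of_dvd two_pos hd
    omega
  have hrep : σ.cycleType = Multiset.replicate σ.cycleType.card 2 :=
    Multiset.eq_replicate.2 ⟨rfl, h2⟩
  have hk : σ.cycleType.card = m := by
    rw [hrep, Multiset.sum_replicate, smul_eq_mul] at hsum
    omega
  have hsign : Equiv.Perm.sign σ = -1 := by
    rw [Equiv.Perm.sign_of_cycleType, hsum, hk]
    exact Odd.neg_one_pow ((even_two_mul m).add_odd hm)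
  refine ⟨φ.ker, ?_⟩
  rw [Subgroup.index_ker]
  have : φ.range = ⊤ := by
    rw [eq_top_iff]
    intro u _
    rcases Int.units_eq_one_or u with rfl | rfl
    · exact one_mem _
    · exact ⟨x, hsign⟩
  rw [this, Subgroup.card_top]
  simp

end Cfsg.Agent.Invol

namespace Cfsg.Agent.Invol

open scoped Pointwise

variable {G : Type*} [Group G]

/-- Two commuting involutions are conjugate into any given Sylow 2-subgroup simultaneously. -/
theorem exists_conj_pair_mem [Finite G] (S : Sylow 2 G) {a b : G} (ha : a * a = 1)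
    (hb : b * b = 1) (hab : Commute a b) : ∃ g : G, g * a * g⁻¹ ∈ S ∧ g * b * g⁻¹ ∈ S := by
  have : Fact (Nat.Prime 2) := ⟨Nat.prime_two⟩
  have hmem : ∀ x ∈ Subgroup.closure ({a, b} : Set G), x * x = 1 ∧ Commute x a ∧ Commute x b := by
    intro x hx
    have : x ∈ ({1, a, b, a * b} : Set G) := by
      induction hx using Subgroup.closure_induction with
      | mem y hy => rcases hy with rfl | rfl <;> simp
      | one => simp
      | mul y z _ _ hy hz =>
        have hba : b * a = a * b := hab.eq.symm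
        have hba' : ∀ w, b * (a * w) = a * (b * w) := fun w => by
          rw [← mul_assoc, hba, mul_assoc]
        have ha' : ∀ w, a * (a * w) = w := fun w => by rw [← mul_assoc, ha, one_mul]
        have hb' : ∀ w, b * (b * w) = w := fun w => by rw [← mul_assoc, hb, one_mul]
        simp only [Set.mem_insert_iff, Set.mem_singleton_iff] at hy hz ⊢
        rcases hy with rfl | rfl | rfl | rfl <;> rcases hz with rfl | rfl | rfl | rfl <;>
          simp [mul_assoc, ha, hb, hba, hba', ha', hb']
      | inv y _ hy =>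
        have ha1 : a⁻¹ = a := inv_eq_of_mul_eq_one_right ha
        have hb1 : b⁻¹ = b := inv_eq_of_mul_eq_one_right hb
        rcases hy with rfl | rfl | rfl | rfl <;> simp [ha1, hb1, hab.eq]
    have hac : Commute (a * b) a := (Commute.refl a).mul_left hab.symm
    have hbc : Commute (a * b) b := hab.mul_left (Commute.refl b)
    rcases this with rfl | rfl | rfl | rfl
    · simp
    · exact ⟨ha, Commute.refl _, hab⟩
    · exact ⟨hb, hab.symm, Commute.refl _⟩
    · exact ⟨by rw [mul_assoc a b, ← mul_assoc b a b, ← hab.eq, mul_assoc a b b, hb, mul_one, ha], hac, hbc⟩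
  have hp : IsPGroup 2 (Subgroup.closure ({a, b} : Set G)) := fun x =>
    ⟨1, Subtype.ext (by simpa [pow_two] using (hmem x x.2).1)⟩
  obtain ⟨Q, hQ⟩ := hp.exists_le_sylow
  obtain ⟨g, hg⟩ := MulAction.exists_smul_eq G Q S
  refine ⟨g, ?_, ?_⟩
  · rw [← hg]
    show g * a * g⁻¹ ∈ MulAut.conj g • (Q : Subgroup G)
    exact ⟨a, hQ (Subgroup.subset_closure (by simp)), rfl⟩
  · rw [← hg]
    show g * b * g⁻¹ ∈ MulAut.conj g • (Q : Subgroup G)
    exact ⟨b, hQ (Subgroup.subset_closure (by simp)), rfl⟩

/-- The elements sending `x` to `y` by conjugation form a coset of the centralizer of `x`. -/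
theorem card_conj_eq {x : G} (y : G) (h : ∃ g : G, g * x * g⁻¹ = y) :
    Nat.card {g : G // g * x * g⁻¹ = y} = Nat.card (Subgroup.centralizer ({x} : Set G)) := by
  obtain ⟨g₀, hg₀⟩ := h
  refine Nat.card_congr ((Equiv.mulLeft g₀⁻¹).subtypeEquiv fun g => ?_)
  rw [mem_centralizer_singleton_iff', Equiv.coe_mulLeft, commute_iff_eq,
    ← mul_inv_eq_iff_eq_mul]
  subst hg₀
  constructor
  · intro h
    calc g₀⁻¹ * g * x * (g₀⁻¹ * g)⁻¹ = g₀⁻¹ * (g * x * g⁻¹) * g₀ := by group
      _ = x := by rw [h]; group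
  · intro h
    calc g * x * g⁻¹ = g₀ * (g₀⁻¹ * g * x * (g₀⁻¹ * g)⁻¹) * g₀⁻¹ := by group
      _ = g₀ * x * g₀⁻¹ := by rw [h]

/-- The first members of pairs of involutions with product `x ≠ 1`. -/
def pairEquiv (x : G) :
    {p : G × G // orderOf p.1 = 2 ∧ orderOf p.2 = 2 ∧ p.1 * p.2 = x} ≃
      {t : G // orderOf t = 2 ∧ orderOf (t * x) = 2} where
  toFun p := ⟨p.1.1, p.2.1, by
    have h : p.1.1 * (p.1.1 * p.1.2) = p.1.2 := by
      rw [← mul_assoc, mul_self_of_orderOf_two p.2.1, one_mul]
    rw [p.2.2.2] at h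
    rw [h]
    exact p.2.2.1⟩
  invFun t := ⟨(t.1, t.1 * x), t.2.1, t.2.2, by
    rw [← mul_assoc, mul_self_of_orderOf_two t.2.1, one_mul]⟩
  left_inv p := by
    apply Subtype.ext
    apply Prod.ext
    · rfl
    · show p.1.1 * x = p.1.2
      have h : p.1.1 * (p.1.1 * p.1.2) = p.1.2 := by
        rw [← mul_assoc, mul_self_of_orderOf_two p.2.1, one_mul]
      rwa [p.2.2.2] at h
  right_inv t := rfl

theorem orderOf_mul_eq_two_iff {x t : G} (ht : orderOf t = 2) :
    orderOf (t * x) = 2 ↔ t * x * t⁻¹ = x⁻¹ ∧ t * x ≠ 1 := by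
  have h2 := mul_self_of_orderOf_two ht
  rw [inv_of_orderOf_two ht]
  constructor
  · intro h
    refine ⟨eq_inv_of_mul_eq_one_left ?_, ne_one_of_orderOf_two h⟩
    rw [mul_assoc _ t x]
    exact mul_self_of_orderOf_two h
  · rintro ⟨h, hne⟩
    refine orderOf_two_of_mul_self ?_ hne
    rw [← mul_assoc (t * x) t x, h, inv_mul_cancel]

theorem card_pairs_of_sq_ne_one {x : G} (hx : x ^ 2 ≠ 1) :
    Nat.card {p : G × G // orderOf p.1 = 2 ∧ orderOf p.2 = 2 ∧ p.1 * p.2 = x} =
      Nat.card {t : G // orderOf t = 2 ∧ t * x * t⁻¹ = x⁻¹} := by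
  refine Nat.card_congr ((pairEquiv x).trans (Equiv.subtypeEquivRight fun t => ?_))
  constructor
  · exact fun h => ⟨h.1, ((orderOf_mul_eq_two_iff h.1).1 h.2).1⟩
  · refine fun h => ⟨h.1, (orderOf_mul_eq_two_iff h.1).2 ⟨h.2, fun h1 => hx ?_⟩⟩
    have : x = t := by
      rw [← inv_of_orderOf_two h.1]
      exact eq_inv_of_mul_eq_one_right h1
    rw [this, pow_two]
    exact mul_self_of_orderOf_two h.1

theorem card_pairs_add_one_of_involution [Finite G] {x : G} (hx : orderOf x = 2) :
    Nat.card {p : G × G // orderOf p.1 = 2 ∧ orderOf p.2 = 2 ∧ p.1 * p.2 = x} + 1 =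
      Nat.card {t : G // orderOf t = 2 ∧ Commute t x} := by
  classical
  haveI := Fintype.ofFinite G
  rw [Nat.card_congr (pairEquiv x)]
  simp only [Nat.card_eq_fintype_card, Fintype.card_subtype]
  have : (Finset.univ.filter fun t : G => orderOf t = 2 ∧ Commute t x) =
      insert x (Finset.univ.filter fun t : G => orderOf t = 2 ∧ orderOf (t * x) = 2) := by
    ext t
    simp only [Finset.mem_filter, Finset.mem_univ, true_and, Finset.mem_insert]
    constructor
    · rintro ⟨h, hc⟩
      by_cases htx : t = x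
      · exact Or.inl htx
      · refine Or.inr ⟨h, (orderOf_mul_eq_two_iff h).2 ⟨?_, ?_⟩⟩
        · rw [hc.eq, mul_inv_cancel_right, inv_of_orderOf_two hx]
        · intro h1
          exact htx (by rw [eq_inv_of_mul_eq_one_left h1, inv_of_orderOf_two hx])
    · rintro (rfl | ⟨h, hc⟩)
      · exact ⟨hx, Commute.refl _⟩
      · have := ((orderOf_mul_eq_two_iff h).1 hc).1
        rw [inv_of_orderOf_two hx] at this
        exact ⟨h, mul_inv_eq_iff_eq_mul.1 this⟩
  rw [this, Finset.card_insert_of_notMem]
  simp [mul_self_of_orderOf_two hx]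

/-- The number of pairs of involutions with product `x` is bounded by the centralizer order. -/
theorem card_pairs_le [Finite G] (x : G) (hreal : IsConj x x⁻¹) :
    Nat.card {p : G × G // orderOf p.1 = 2 ∧ orderOf p.2 = 2 ∧ p.1 * p.2 = x} ≤
      Nat.card (Subgroup.centralizer ({x} : Set G)) := by
  rw [Nat.card_congr (pairEquiv x), ← card_conj_eq x⁻¹ (isConj_iff.1 hreal)]
  exact Nat.card_le_card_of_injective
    (Subtype.map id fun t ht => ((orderOf_mul_eq_two_iff ht.1).1 ht.2).1)
    (Subtype.map_injective _ Function.injective_id)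

theorem card_pairs_eq_zero (x : G) (hreal : ¬ IsConj x x⁻¹) :
    Nat.card {p : G × G // orderOf p.1 = 2 ∧ orderOf p.2 = 2 ∧ p.1 * p.2 = x} = 0 := by
  have : IsEmpty {p : G × G // orderOf p.1 = 2 ∧ orderOf p.2 = 2 ∧ p.1 * p.2 = x} := ⟨fun p => by
    have h := (pairEquiv x p).2
    exact hreal (isConj_iff.2 ⟨_, ((orderOf_mul_eq_two_iff h.1).1 h.2).1⟩)⟩
  exact Nat.card_of_isEmpty

theorem card_pairs_involution_add_two_le [Finite G] {x : G} (hx : orderOf x = 2) :
    Nat.card {p : G × G // orderOf p.1 = 2 ∧ orderOf p.2 = 2 ∧ p.1 * p.2 = x} + 2 ≤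
      Nat.card (Subgroup.centralizer ({x} : Set G)) := by
  have h := card_pairs_add_one_of_involution hx
  have hlt : Nat.card {t : G // orderOf t = 2 ∧ Commute t x} <
      Nat.card (Subgroup.centralizer ({x} : Set G)) := by
    classical
    haveI := Fintype.ofFinite G
    rw [Nat.card_eq_fintype_card, Nat.card_eq_fintype_card]
    refine Fintype.card_lt_of_injective_of_notMem
      (Subtype.map id fun t ht => mem_centralizer_singleton_iff'.2 ht.2)
      (Subtype.map_injective _ Function.injective_id) (b := 1) ?_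
    rintro ⟨t, ht⟩
    exact ne_one_of_orderOf_two t.2.1 (congrArg Subtype.val ht)
  omega

end Cfsg.Agent.Invol
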