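import Cfsg.Agent.Lib.Invol.Basic

/-!
# The counting argument of Brauer and Fowler
-/

set_option autoImplicit false

namespace Cfsg.Agent.Invol

variable {G : Type*} [Group G]

/-- Brauer–Fowler: the square of the number of involutions is bounded by means of any lower bound
for the indices of the extended centralizers of real elements. -/
theorem brauer_fowler_bound [Finite G] (m : ℕ)
    (hinv : ∀ x : G, orderOf x = 2 →
      Nat.card (Subgroup.centralizer ({x} : Set G)) * m ≤ Nat.card G)
    (hreal : ∀ x : G, x ≠ 1 → orderOf x ≠ 2 → IsConj x x⁻¹ →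
      2 * Nat.card (Subgroup.centralizer ({x} : Set G)) * m ≤ Nat.card G) :
    2 * m * Nat.card {t : G // orderOf t = 2} ^ 2 <
      Nat.card G * (Nat.card G + Nat.card {t : G // orderOf t = 2}) := by
  classical
  haveI := Fintype.ofFinite G
  let c : G → ℕ := fun x =>
    Nat.card {p : G × G // orderOf p.1 = 2 ∧ orderOf p.2 = 2 ∧ p.1 * p.2 = x}
  have hsum : ∑ x : G, c x = Nat.card {t : G // orderOf t = 2} ^ 2 := by
    rw [pow_two, ← Nat.card_prod, ← Nat.card_sigma]
    exact Nat.card_congr
      { toFun := fun p => (⟨p.2.1.1, p.2.2.1⟩, ⟨p.2.1.2, p.2.2.2.1⟩)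
        invFun := fun q => ⟨q.1.1 * q.2.1, ⟨(q.1.1, q.2.1), q.1.2, q.2.2, rfl⟩⟩
        left_inv := fun p => by
          obtain ⟨x, ⟨u, v⟩, hu, hv, rfl⟩ := p
          rfl
        right_inv := fun q => rfl }
  have hc1 : c 1 = Nat.card {t : G // orderOf t = 2} := by
    show Nat.card _ = _
    rw [Nat.card_congr (pairEquiv (1 : G))]
    exact Nat.card_congr (Equiv.subtypeEquivRight fun t => by simp)
  have hbound : ∀ x : G, 2 * m * c x + (if orderOf x = 2 then 4 * m else 0) ≤
      (if x = 1 then 2 * m * Nat.card {t : G // orderOf t = 2} else Nat.card G) +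
        if orderOf x = 2 then Nat.card G else 0 := by
    intro x
    by_cases h1 : x = 1
    · subst h1
      rw [if_pos rfl, hc1, if_neg (by simp), if_neg (by simp)]
    rw [if_neg h1]
    by_cases h2 : orderOf x = 2
    · rw [if_pos h2, if_pos h2]
      have h := hinv x h2
      have hc : (c x + 2) * m ≤ Nat.card G :=
        le_trans (Nat.mul_le_mul_right m (card_pairs_involution_add_two_le h2)) h
      nlinarith
    · rw [if_neg h2, if_neg h2, add_zero, add_zero]
      by_cases hr : IsConj x x⁻¹
      · calc 2 * m * c x ≤ 2 * m * Nat.card (Subgroup.centralizer ({x} : Set G)) :=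
              Nat.mul_le_mul_left _ (card_pairs_le x hr)
          _ = 2 * Nat.card (Subgroup.centralizer ({x} : Set G)) * m := by ring
          _ ≤ Nat.card G := hreal x h1 h2 hr
      · rw [show c x = 0 from card_pairs_eq_zero x hr]
        simp
  have htot := Finset.sum_le_sum fun x (_ : x ∈ (Finset.univ : Finset G)) => hbound x
  rw [Finset.sum_add_distrib, Finset.sum_add_distrib, ← Finset.mul_sum, hsum,
    ← Finset.sum_filter, ← Finset.sum_filter] at htot
  rw [Finset.sum_ite, Finset.sum_const, Finset.sum_const, Finset.sum_const, Finset.sum_const]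
    at htot
  have e1 : (Finset.univ.filter fun x : G => x = 1).card = 1 :=
    Finset.card_eq_one.2 ⟨1, by ext; simp⟩
  have e2 : (Finset.univ.filter fun x : G => orderOf x = 2).card =
      Nat.card {t : G // orderOf t = 2} := by
    rw [Nat.card_eq_fintype_card, Fintype.card_subtype]
  have e3 : (Finset.univ.filter fun x : G => ¬ x = 1).card + 1 = Nat.card G := by
    rw [Finset.filter_ne', Finset.card_erase_of_mem (Finset.mem_univ _), Finset.card_univ,
      Nat.card_eq_fintype_card]
    have := Fintype.card_pos (α := G)
    omega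
  rw [e1, e2] at htot
  simp only [smul_eq_mul, one_mul] at htot
  generalize Nat.card {t : G // orderOf t = 2} = n at htot ⊢
  generalize (Finset.univ.filter fun x : G => ¬ x = 1).card = r at htot e3
  rw [← e3] at htot ⊢
  nlinarith

/-- The subgroup of elements sending `x` to `x` or to `x⁻¹`. -/
def extCentralizer (x : G) : Subgroup G where
  carrier := {g | g * x * g⁻¹ = x ∨ g * x * g⁻¹ = x⁻¹}
  one_mem' := Or.inl (by simp)
  mul_mem' := by
    intro a b ha hb
    have key : ∀ y, a * b * y * (a * b)⁻¹ = a * (b * y * b⁻¹) * a⁻¹ := fun y => by group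
    have hinv : ∀ y, a * y⁻¹ * a⁻¹ = (a * y * a⁻¹)⁻¹ := fun y => by group
    simp only [Set.mem_setOf_eq] at ha hb ⊢
    rw [key]
    rcases hb with hb | hb <;> rw [hb]
    · exact ha
    · rw [hinv]
      rcases ha with ha | ha <;> rw [ha]
      · exact Or.inr rfl
      · exact Or.inl (inv_inv x)
  inv_mem' := by
    intro a ha
    simp only [Set.mem_setOf_eq, inv_inv] at ha ⊢
    rcases ha with ha | ha
    · left
      nth_rewrite 1 [← ha]
      group
    · right
      have h : x = (a * x * a⁻¹)⁻¹ := by rw [ha, inv_inv]
      nth_rewrite 1 [h]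
      group

theorem two_mul_card_centralizer_le [Finite G] {x : G} (hr : IsConj x x⁻¹) (hx : x⁻¹ ≠ x) :
    2 * Nat.card (Subgroup.centralizer ({x} : Set G)) ≤ Nat.card (extCentralizer x) := by
  have hle : Subgroup.centralizer ({x} : Set G) ≤ extCentralizer x := fun g hg =>
    Or.inl (by rw [(mem_centralizer_singleton_iff'.1 hg).eq, mul_inv_cancel_right])
  obtain ⟨k, hk⟩ := Subgroup.card_dvd_of_le hle
  obtain ⟨g, hg⟩ := isConj_iff.1 hr
  rcases Nat.lt_or_ge k 2 with hk2 | hk2
  · exfalso
    have hkpos : 0 < Nat.card (extCentralizer x) := Nat.card_pos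
    have : k = 1 := by
      interval_cases k
      · simp [hk] at hkpos
      · rfl
    subst this
    rw [mul_one] at hk
    have heq : Subgroup.centralizer ({x} : Set G) = extCentralizer x :=
      Subgroup.eq_of_le_of_card_ge hle (le_of_eq hk)
    have : g ∈ Subgroup.centralizer ({x} : Set G) := by
      rw [heq]; exact Or.inr hg
    exact hx (by rw [← hg, (mem_centralizer_singleton_iff'.1 this).eq, mul_inv_cancel_right])
  · rw [hk, mul_comm]
    exact Nat.mul_le_mul_left _ hk2

/-- **Brauer–Fowler**: a group of even order whose centre has odd order has a proper subgroup of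
small index. -/
theorem exists_small_index [Finite G] (heven : Even (Nat.card G))
    (hZ : Odd (Nat.card (Subgroup.center G))) :
    ∃ H : Subgroup G, H ≠ ⊤ ∧ (H.index = 2 ∨
      2 * H.index * Nat.card {t : G // orderOf t = 2} ^ 2 <
        Nat.card G * (Nat.card G + Nat.card {t : G // orderOf t = 2})) := by
  classical
  by_cases hidx : ∃ H : Subgroup G, H.index = 2
  · obtain ⟨H, hH⟩ := hidx
    refine ⟨H, fun h => ?_, Or.inl hH⟩
    rw [h, Subgroup.index_top] at hH
    omega
  have hex : ∃ m, ∃ H : Subgroup G, H ≠ ⊤ ∧ H.index = m := by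
    refine ⟨_, ⊥, fun h => ?_, rfl⟩
    have h1 : Nat.card (⊥ : Subgroup G) = Nat.card G := by rw [h, Subgroup.card_top]
    rw [Subgroup.card_bot] at h1
    rw [← h1] at heven
    exact absurd heven (by decide)
  obtain ⟨H, hH, hHi⟩ := Nat.find_spec hex
  refine ⟨H, hH, Or.inr ?_⟩
  have hmin : ∀ K : Subgroup G, K ≠ ⊤ → Nat.card K * Nat.find hex ≤ Nat.card G := fun K hK => by
    conv_rhs => rw [← K.card_mul_index]
    exact Nat.mul_le_mul_left _ (Nat.find_min' hex ⟨K, hK, rfl⟩)
  rw [hHi]
  refine brauer_fowler_bound _ (fun x hx => hmin _ fun h => ?_) (fun x h1 h2 hr => ?_)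
  · refine not_mem_of_odd hZ hx (Subgroup.mem_center_iff.2 fun g => ?_)
    exact (mem_centralizer_singleton_iff'.1 (h ▸ Subgroup.mem_top g)).eq
  · have hx : x⁻¹ ≠ x := fun h => h2
      (orderOf_two_of_mul_self (by nth_rewrite 1 [← h]; exact inv_mul_cancel x) h1)
    by_cases htop : extCentralizer x = ⊤
    · exfalso
      have hle : Nat.card G ≤ 2 * Nat.card (Subgroup.centralizer ({x} : Set G)) := by
        haveI := Fintype.ofFinite G
        have e1 := card_conj_eq (x := x) x ⟨1, by simp⟩
        have e2 := card_conj_eq (x := x) x⁻¹ (isConj_iff.1 hr)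
        rw [Nat.card_eq_fintype_card, Fintype.card_subtype] at e1 e2
        rw [Nat.card_eq_fintype_card, ← Finset.card_univ]
        refine le_trans (Finset.card_le_card (t := (Finset.univ.filter fun g => g * x * g⁻¹ = x) ∪
          Finset.univ.filter fun g => g * x * g⁻¹ = x⁻¹) fun g _ => ?_) ?_
        · have : g ∈ extCentralizer x := htop ▸ Subgroup.mem_top g
          rcases this with h | h <;> simp [h]
        · refine le_trans (Finset.card_union_le _ _) ?_
          omega
      have hmul := (Subgroup.centralizer ({x} : Set G)).card_mul_index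
      have hpos : 0 < Nat.card (Subgroup.centralizer ({x} : Set G)) := Nat.card_pos
      rw [← hmul, mul_comm 2] at hle
      have hle2 := Nat.le_of_mul_le_mul_left hle hpos
      have h0 : (Subgroup.centralizer ({x} : Set G)).index ≠ 0 := Subgroup.index_ne_zero_of_finite
      have h2i : (Subgroup.centralizer ({x} : Set G)).index ≠ 2 := fun h => hidx ⟨_, h⟩
      have h1i : (Subgroup.centralizer ({x} : Set G)).index = 1 := by omega
      rw [Subgroup.index_eq_one] at h1i
      obtain ⟨g, hg⟩ := isConj_iff.1 hr
      have hgC : g ∈ Subgroup.centralizer ({x} : Set G) := by rw [h1i]; exact Subgroup.mem_top g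
      exact hx (by rw [← hg, (mem_centralizer_singleton_iff'.1 hgC).eq, mul_inv_cancel_right])
    · exact le_trans (Nat.mul_le_mul_right _ (two_mul_card_centralizer_le hr hx)) (hmin _ htop)

/-- Two proper-subgroup version: some proper subgroup has order greater than the cube root of
the order of the group. -/
theorem exists_big_subgroup (N : ℕ) : ∀ {G : Type*} [Group G] [Finite G],
    Nat.card G ≤ N → Even (Nat.card G) → 2 < Nat.card G →
    ∃ H : Subgroup G, H ≠ ⊤ ∧ Nat.card G < Nat.card H ^ 3 := by
  induction N with
  | zero => intro G _ _ h1 _ h3; omega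
  | succ N ih =>
    intro G _ _ hN heven hgt
    haveI : Fact (Nat.Prime 2) := ⟨Nat.prime_two⟩
    have hindex2 : ∀ H : Subgroup G, H.index = 2 →
        ∃ H : Subgroup G, H ≠ ⊤ ∧ Nat.card G < Nat.card H ^ 3 := fun H hH => by
      refine ⟨H, fun h => ?_, ?_⟩
      · rw [h, Subgroup.index_top] at hH
        omega
      · have := H.card_mul_index
        rw [hH] at this
        rw [← this]
        have h2 : 2 ≤ Nat.card H := by omega
        nlinarith [Nat.mul_le_mul h2 h2]
    by_cases hZ : Odd (Nat.card (Subgroup.center G))
    · obtain ⟨H, hH, h2 | hb⟩ := exists_small_index heven hZ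
      · exact hindex2 H h2
      obtain ⟨t, -, ht⟩ : ∃ t ∈ (⊤ : Subgroup G), orderOf t = 2 :=
        exists_involution_mem (by rwa [Subgroup.card_top])
      let C := Subgroup.centralizer ({t} : Set G)
      have hC : C ≠ ⊤ := fun h => not_mem_of_odd hZ ht (Subgroup.mem_center_iff.2 fun g =>
        (mem_centralizer_singleton_iff'.1 (show g ∈ C by rw [h]; exact Subgroup.mem_top g)).eq)
      have hclass : Nat.card G ≤ Nat.card {t : G // orderOf t = 2} * Nat.card C := by
        classical
        haveI := Fintype.ofFinite G
        rw [Nat.card_eq_fintype_card, ← Finset.card_univ, Nat.card_eq_fintype_card (α := {t : G // _}),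
          Fintype.card_subtype]
        rw [Finset.card_eq_sum_card_fiberwise (f := fun g : G => g * t * g⁻¹)
          (t := Finset.univ.filter fun r : G => orderOf r = 2)
          (fun g _ => by simp [orderOf_conj_eq, ht])]
        rw [← smul_eq_mul]
        refine Finset.sum_le_card_nsmul _ _ _ fun r _ => ?_
        by_cases hr : ∃ g, g * t * g⁻¹ = r
        · have := card_conj_eq r hr
          rw [Nat.card_eq_fintype_card, Fintype.card_subtype] at this
          exact this.le
        · push_neg at hr
          simp [hr]
      have hmul := H.card_mul_index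
      generalize Nat.card {t : G // orderOf t = 2} = n at hb hclass
      generalize hc : Nat.card C = c at hclass
      generalize hg : Nat.card G = g at hgt hb hclass hmul
      have key : H.index < c * c := by
        have hc0 : 0 < c := hc ▸ Nat.card_pos
        have h1 : 2 * H.index * (n * c) ^ 2 < g * c * (g * c + n * c) := by
          have := Nat.mul_lt_mul_of_pos_right hb (Nat.mul_pos hc0 hc0)
          nlinarith
        have h2 : g * c * (g * c + n * c) ≤ (n * c) ^ 2 * (c * (c + 1)) := by
          rw [show (n * c) ^ 2 * (c * (c + 1)) = (n * c) * c * ((n * c) * c + n * c) by ring]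
          gcongr
        have h3 : 2 * H.index < c * (c + 1) := by
          have := lt_of_lt_of_le h1 h2
          rw [mul_comm] at this
          exact Nat.lt_of_mul_lt_mul_left this
        have h4 : c * (c + 1) ≤ c * c * 2 := by
          rw [mul_assoc]
          exact Nat.mul_le_mul_left c (by omega)
        omega
      by_cases hcH : c ≤ Nat.card H
      · refine ⟨H, hH, ?_⟩
        rw [← hmul]
        calc Nat.card H * H.index < Nat.card H * (c * c) :=
              Nat.mul_lt_mul_of_pos_left key Nat.card_pos
          _ ≤ Nat.card H ^ 3 := by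
              rw [pow_succ', pow_two]
              exact Nat.mul_le_mul_left _ (Nat.mul_le_mul hcH hcH)
      · refine ⟨C, hC, ?_⟩
        rw [hc, ← hmul]
        calc Nat.card H * H.index ≤ c * H.index := Nat.mul_le_mul_right _ (by omega)
          _ < c * (c * c) := Nat.mul_lt_mul_of_pos_left key (by omega)
          _ = c ^ 3 := by ring
    · obtain ⟨z, hz, hz2⟩ := exists_involution_mem (Nat.not_odd_iff_even.1 hZ)
      have hn : (Subgroup.zpowers z).Normal := ⟨fun n hn g => by
        rw [(Subgroup.mem_center_iff.1 (Subgroup.zpowers_le.2 hz hn)) g, mul_inv_cancel_right]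
        exact hn⟩
      have hcard := (Subgroup.zpowers z).card_eq_card_quotient_mul_card_subgroup
      rw [Nat.card_zpowers, hz2] at hcard
      generalize hq : Nat.card (G ⧸ Subgroup.zpowers z) = q at hcard
      rcases Nat.even_or_odd q with hev | hodd
      · by_cases hq2 : q = 2
        · exact hindex2 (Subgroup.zpowers z) (by rw [Subgroup.index_eq_card, hq, hq2])
        obtain ⟨K, hK, hb⟩ := ih (G := G ⧸ Subgroup.zpowers z) (by omega) (hq ▸ hev) (by
          obtain ⟨r, rfl⟩ := hev
          omega)
        have hsurj := QuotientGroup.mk'_surjective (Subgroup.zpowers z)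
        refine ⟨K.comap (QuotientGroup.mk' _), fun h => hK ?_, ?_⟩
        · rw [← Subgroup.map_comap_eq_self_of_surjective hsurj K, h,
            Subgroup.map_top_of_surjective _ hsurj]
        · have h1 := (K.comap (QuotientGroup.mk' (Subgroup.zpowers z))).card_mul_index
          rw [Subgroup.index_comap_of_surjective _ hsurj] at h1
          have h2 := K.card_mul_index
          rw [hq] at h2 hb
          have h4 : K.index * Nat.card (K.comap (QuotientGroup.mk' (Subgroup.zpowers z))) =
              K.index * (2 * Nat.card K) := by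
            rw [mul_comm, h1, hcard, ← h2]
            ring
          have h3 : Nat.card (K.comap (QuotientGroup.mk' (Subgroup.zpowers z))) = 2 * Nat.card K :=
            Nat.eq_of_mul_eq_mul_left (Nat.pos_of_ne_zero Subgroup.index_ne_zero_of_finite) h4
          rw [h3, mul_pow]
          omega
      · obtain ⟨H, hH⟩ := exists_index_two_of_fpf (⊥ : Subgroup G) q hodd
          (by rw [Subgroup.index_bot, hcard, mul_comm]) z (mul_self_of_orderOf_two hz2)
          (fun g h => ne_one_of_orderOf_two hz2 (by
            have := Subgroup.mem_bot.1 h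
            calc z = g * (g⁻¹ * z * g) * g⁻¹ := by group
              _ = 1 := by rw [this]; group))
        exact hindex2 H hH

end Cfsg.Agent.Invol
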